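import Groth.Agent.DivVanLib.Semi
import Groth.Agent.AffCritLib.Acyclic
import Groth.Agent.CIProjLib.Coh
import Groth.Agent.CastLib.InterFibreClass
import Groth.Agent.AmpleLib.RelLocal
import Groth.Agent.S0028

/-!
# Vanishing along the multiples of a divisor contracted flatly
-/

set_option autoImplicit false
set_option backward.isDefEq.respectTransparency false
set_option linter.style.haveILetI false

universe u

open CategoryTheory CategoryTheory.Limits AlgebraicGeometry TopologicalSpace Opposite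
open Groth.Agent.PullbackMod Groth.Agent.DCohLib Groth.Agent.AmpleLib
open Groth.Agent.AmpleEmb Groth.Agent.SemiVanLib

noncomputable section

namespace Groth.Agent.DivVanLib

variable {X Y S Z F : Scheme.{u}}

theorem isQuasiAffine_affine (g : X ⟶ Y) [IsAffineHom g] : Mor2.IsQuasiAffine g := by
  refine ⟨inferInstance, fun U hU => ?_⟩
  haveI : IsAffine ((g ⁻¹ᵁ U : X.Opens) : Scheme.{u}) := hU.preimage g
  infer_instance

theorem isCoh_inv [IsLocallyNoetherian X] {L : X.Modules} (hL : PicF.IsInvertible L) (n : ℕ) :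
    Coh.IsCoh (CohB1.tensorPow L n) :=
  CurveLib.isCoh_of_isInvertible (AmpleLib.isInvertible_tensorPow hL n)

/-- Cancelling inverse powers. -/
def cancelIso {C N : X.Modules} (η : CohB1.tensorMod C N ≅ Coh.structureModule X) (A : X.Modules) (e : ℕ) :
    CohB1.tensorMod (CohB1.tensorPow C e) (CohB1.tensorMod A (CohB1.tensorPow N e)) ≅ A :=
  AmpleLib.tIso (Iso.refl _) (AmpleLib.comm _ _) ≪≫ (AmpleLib.assoc _ _ _).symm ≪≫
    AmpleLib.tIso ((AmpleLib.powTensor C N e).symm ≪≫ AmpleLib.powCongr η e ≪≫ AmpleLib.powUnit e) (Iso.refl A) ≪≫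
      AmpleLib.unitL A

/-- The mixed powers. -/
def mixIso (L N : X.Modules) (m a : ℕ) :
    CohB1.tensorPow (CohB1.tensorMod L (CohB1.tensorPow N m)) a ≅
      CohB1.tensorMod (CohB1.tensorPow L a) (CohB1.tensorPow N (m * a)) :=
  AmpleLib.powTensor _ _ a ≪≫ AmpleLib.tIso (Iso.refl _) (AmpleLib.powMul N m a)

/-- The terms through the small powers. -/
def smallIso {C N L : X.Modules} (η : CohB1.tensorMod C N ≅ Coh.structureModule X) (m a b j : ℕ) (h : b + j = m * a) :
    CohB1.tensorMod (CohB1.tensorPow C j) (CohB1.tensorPow (CohB1.tensorMod L (CohB1.tensorPow N m)) a) ≅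
      CohB1.tensorMod (CohB1.tensorPow L a) (CohB1.tensorPow N b) :=
  AmpleLib.tIso (Iso.refl _) (mixIso L N m a ≪≫
    AmpleLib.tIso (Iso.refl _) (eqToIso (congrArg (CohB1.tensorPow N) h.symm) ≪≫ AmpleLib.powAdd N b j) ≪≫
      (AmpleLib.assoc _ _ _).symm) ≪≫ cancelIso η _ j

/-- The terms through the large powers. -/
def largeIso {C N L : X.Modules} (η : CohB1.tensorMod C N ≅ Coh.structureModule X) (m a b e u' v : ℕ)
    (h : b + e = m * u') (ha : u' + v = a) :
    CohB1.tensorMod (CohB1.tensorMod (CohB1.tensorPow C e)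
        (CohB1.tensorPow (CohB1.tensorMod L (CohB1.tensorPow N m)) u')) (CohB1.tensorPow L v) ≅
      CohB1.tensorMod (CohB1.tensorPow L a) (CohB1.tensorPow N b) :=
  AmpleLib.tIso (smallIso η m u' b e h) (Iso.refl _) ≪≫
    AmpleLib.assoc _ _ _ ≪≫ AmpleLib.tIso (Iso.refl _) (AmpleLib.comm _ _) ≪≫ (AmpleLib.assoc _ _ _).symm ≪≫
      AmpleLib.tIso ((AmpleLib.powAdd L u' v).symm ≪≫ eqToIso (congrArg (CohB1.tensorPow L) ha)) (Iso.refl _)

/-- A fixed power with vanishing fibres, twisted by large powers from the base. -/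
theorem exists_isZero_fixed [IsNoetherian S] (ψ : Z ⟶ F) (g : F ⟶ S) [IsProper (ψ ≫ g)] [IsProper g] [Flat ψ]
    [HasInjectiveResolutions Z.Modules] {G : F.Modules} (hG : PicF.IsInvertible G)
    (hGa : ∀ W : S.Opens, IsAffineOpen W → CohB1.IsAmple (G.restrict (g ⁻¹ᵁ W).ι))
    {P : Z.Modules} (hP : PicF.IsInvertible P)
    (hfib : ∀ (y : F) (i : ℕ), 0 < i → Subsingleton (CohIII.fiberH ψ P y i)) :
    ∃ t₀ : ℕ, ∀ t, t₀ ≤ t → ∀ i, 0 < i → IsZero ((Coh.Rpush (ψ ≫ g) i).obj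
      (CohB1.tensorMod P ((Scheme.Modules.pullback ψ).obj (CohB1.tensorPow G t)))) := by
  haveI : IsLocallyNoetherian F := LocallyOfFiniteType.isLocallyNoetherian g
  haveI : IsProper ψ := IsProper.of_comp ψ g
  haveI : IsLocallyNoetherian Z := LocallyOfFiniteType.isLocallyNoetherian ψ
  haveI : HasInjectiveResolutions F.Modules := inferInstance
  have hPc := CurveLib.isCoh_of_isInvertible hP
  haveI := hPc.1
  obtain ⟨t₀, ht₀⟩ := AmpleEmb.exists_isZero_rpush_tensorPow g hG hGa (RpushLib.isCoh_push ψ hPc)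
  refine ⟨t₀, fun t ht i hi => ?_⟩
  have hE := CurveLib.isFinLocFree_of_isInvertible (AmpleLib.isInvertible_tensorPow hG t)
  refine isZero_rpush_comp ψ g i hi (fun j hj _ => ?_) ?_
  · obtain ⟨φ⟩ := DCohLib.nonempty_projection_flf ψ P hE j
    haveI := DCohLib.additive_flip_obj (CohB1.tensorPow G t)
    exact (((DCoh.tensorBi (X := F)).flip.obj (CohB1.tensorPow G t)).map_isZero
      (isZero_rpush_of_fibres ψ hP j fun y => hfib y j hj)).of_iso φ.symm
  · haveI := DCohLib.isIso_projMap_of_flf ψ hE P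
    exact IsZero.of_iso (ht₀ t ht i hi)
      ((Coh.Rpush g i).mapIso (asIso (DCohLib.projMap ψ P (CohB1.tensorPow G t))).symm)

/-- All the intermediate terms on the divisor vanish at once. -/
theorem exists_isZero_terms [IsNoetherian S] (ψ : Z ⟶ F) (g : F ⟶ S) [IsProper (ψ ≫ g)] [IsProper g] [Flat ψ]
    [HasInjectiveResolutions Z.Modules] {G : F.Modules} (hG : PicF.IsInvertible G)
    (hGa : ∀ W : S.Opens, IsAffineOpen W → CohB1.IsAmple (G.restrict (g ⁻¹ᵁ W).ι))
    {L N C : Z.Modules} (hL : PicF.IsInvertible L) (hN : PicF.IsInvertible N) (hC : PicF.IsInvertible C)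
    (hLa : ∀ W : S.Opens, IsAffineOpen W → CohB1.IsAmple (L.restrict ((ψ ≫ g) ⁻¹ᵁ W).ι))
    (η : CohB1.tensorMod C N ≅ Coh.structureModule Z) {m r : ℕ} (hm : 0 < m) (hr : 0 < r)
    (eG : (Scheme.Modules.pullback ψ).obj G ≅ CohB1.tensorPow (CohB1.tensorMod L (CohB1.tensorPow N m)) r)
    (hfib : ∀ (y : F) (i n : ℕ), 0 < i → Subsingleton (CohIII.fiberH ψ (CohB1.tensorPow C n) y i)) :
    ∃ t₀ : ℕ, ∀ t, t₀ ≤ t → ∀ b, 1 ≤ b → b ≤ m * (r * t) → ∀ i, 0 < i → IsZero ((Coh.Rpush (ψ ≫ g) i).obj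
      (CohB1.tensorMod (CohB1.tensorPow L (r * t)) (CohB1.tensorPow N b))) := by
  haveI : IsLocallyNoetherian Z := LocallyOfFiniteType.isLocallyNoetherian (ψ ≫ g)
  have hLE := AmpleLib.isInvertible_tensor hL (AmpleLib.isInvertible_tensorPow hN m)
  have hl : ∀ e : ℕ, ∃ B : ℕ, ∀ i a v : ℕ, 0 < i → B ≤ v → IsZero ((Coh.Rpush (ψ ≫ g) i).obj
      (CohB1.tensorMod (CohB1.tensorMod (CohB1.tensorPow C e)
        (CohB1.tensorPow (CohB1.tensorMod L (CohB1.tensorPow N m)) a)) (CohB1.tensorPow L v))) := fun e =>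
    exists_isZero_large_twist ψ g hLE hL hLa hGa hr eG (isCoh_inv hC e)
  choose B₀ hB₀ using hl
  let B := (Finset.range m).sup B₀
  have hf : ∀ j : ℕ, ∃ t₀ : ℕ, ∀ t, t₀ ≤ t → ∀ i, 0 < i → IsZero ((Coh.Rpush (ψ ≫ g) i).obj
      (CohB1.tensorMod (CohB1.tensorPow C j) ((Scheme.Modules.pullback ψ).obj (CohB1.tensorPow G t)))) := fun j =>
    exists_isZero_fixed ψ g hG hGa (AmpleLib.isInvertible_tensorPow hC j) fun y i hi => hfib y i j hi
  choose t₁ ht₁ using hf
  refine ⟨(Finset.range (m * B)).sup t₁, fun t ht b hb hbm i hi => ?_⟩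
  obtain ⟨j, hj⟩ : ∃ j, b + j = m * (r * t) := ⟨_, Nat.add_sub_cancel' hbm⟩
  have hd := Nat.div_add_mod j m
  have he : j % m < m := Nat.mod_lt j hm
  by_cases hB : B ≤ j / m
  · have hq : j / m < r * t := Nat.lt_of_mul_lt_mul_left (a := m) (by omega)
    have h1 : b + j % m = m * (r * t - j / m) := by
      rw [Nat.mul_sub]
      omega
    exact IsZero.of_iso (hB₀ (j % m) i (r * t - j / m) (j / m) hi
      ((Finset.le_sup (f := B₀) (Finset.mem_range.2 he)).trans hB))
      ((Coh.Rpush (ψ ≫ g) i).mapIso (largeIso η m (r * t) b (j % m) (r * t - j / m) (j / m) h1 (by omega)).symm)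
  · have hjB : j < m * B := by
      have : m * (j / m + 1) ≤ m * B := Nat.mul_le_mul_left m (by omega)
      rw [Nat.mul_add, Nat.mul_one] at this
      omega
    refine IsZero.of_iso (ht₁ j t ((Finset.le_sup (Finset.mem_range.2 hjB)).trans ht) i hi)
      ((Coh.Rpush (ψ ≫ g) i).mapIso ?_)
    exact (smallIso η m (r * t) b j hj).symm ≪≫ AmpleLib.tIso (Iso.refl _)
      ((AmpleLib.powMul _ r t).symm ≪≫ AmpleLib.powCongr eG.symm t ≪≫ (AmpleLib.pullPow ψ G t).symm)

/-- Higher direct images of a pushforward along an affine morphism. -/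
theorem isZero_rpush_push [HasInjectiveResolutions X.Modules] [HasInjectiveResolutions Z.Modules]
    (ι : Z ⟶ X) [IsAffineHom ι] (f : X ⟶ S) (Q : Z.Modules) [Coh.IsQCoh Q] (i : ℕ)
    (h : IsZero ((Coh.Rpush (ι ≫ f) i).obj Q)) :
    IsZero ((Coh.Rpush f i).obj ((Scheme.Modules.pushforward ι).obj Q)) := by
  refine isZero_of_toAb f i ?_
  obtain ⟨e⟩ := AffComp.nonempty_comp_of_vanishing ι f (Coh.toAb Q)
    (fun j => Groth.Agent.S0028.result ι Q (j + 1) (Nat.succ_pos j)) i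
  exact IsZero.of_iso (isZero_toAb (ι ≫ f) i h) e

/-- The term before in the filtration. -/
def predIso {J O : X.Modules} (η : CohB1.tensorMod O J ≅ Coh.structureModule X) (A : X.Modules) (b : ℕ) :
    CohB1.tensorMod J (CohB1.tensorMod A (CohB1.tensorPow O (b + 1))) ≅
      CohB1.tensorMod A (CohB1.tensorPow O b) :=
  AmpleLib.comm _ _ ≪≫ AmpleLib.assoc _ _ _ ≪≫ AmpleLib.tIso (Iso.refl A)
    (AmpleLib.assoc _ _ _ ≪≫ AmpleLib.tIso (Iso.refl _) η ≪≫ AmpleLib.unitR _)

/-- The twists on the total space. -/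
theorem exists_isZero_total [IsNoetherian S] (f : X ⟶ S) [IsProper f] [HasInjectiveResolutions X.Modules]
    {L0 : X.Modules} (hL0 : PicF.IsInvertible L0)
    (hL0a : RelAmple.IsRelAmple f L0)
    (I : X.IdealSheafData) (hI : BlowUp.IsEffCartierIdeal I)
    {OE : X.Modules} (hOE : PicF.IsInvertible OE) (η : CohB1.tensorMod OE (ClSub.idealMod I) ≅ Coh.structureModule X)
    {m : ℕ} (hm : 0 < m) (g : F ⟶ S) [IsProper g] (ψ : I.subscheme ⟶ F) [Flat ψ] (hψg : ψ ≫ g = I.subschemeι ≫ f)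
    {G : F.Modules} (hG : PicF.IsInvertible G) (hGa : RelAmple.IsRelAmple g G) {r : ℕ} (hr : 0 < r)
    (eG : (Scheme.Modules.pullback ψ).obj G ≅ CohB1.tensorPow (CohB1.tensorMod ((Scheme.Modules.pullback I.subschemeι).obj L0) (CohB1.tensorPow ((Scheme.Modules.pullback I.subschemeι).obj OE) m)) r)
    (hfib : ∀ (y : F) (i n : ℕ), 0 < i → Subsingleton (CohIII.fiberH ψ
      (CohB1.tensorPow ((Scheme.Modules.pullback I.subschemeι).obj (ClSub.idealMod I)) n) y i)) :
    ∃ n : ℕ, 0 < n ∧ ∀ i j : ℕ, 0 < i → 1 ≤ j → IsZero ((Coh.Rpush f i).obj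
      (CohB1.tensorPow (CohB1.tensorMod L0 (CohB1.tensorPow OE m)) (j * n))) := by
  haveI : IsLocallyNoetherian X := LocallyOfFiniteType.isLocallyNoetherian f
  let ι := I.subschemeι
  let Z := I.subscheme
  let T := Scheme.Modules.pullback ι
  have hJ : PicF.IsInvertible (ClSub.idealMod I) := CastLib.isInvertible_idealMod hI
  haveI : IsProper (ι ≫ f) := inferInstance
  haveI : IsProper (ψ ≫ g) := by rw [hψg]; infer_instance
  haveI : IsLocallyNoetherian Z := LocallyOfFiniteType.isLocallyNoetherian (ι ≫ f)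
  haveI : HasInjectiveResolutions Z.Modules := inferInstance
  have hLa : RelAmple.IsRelAmple (ψ ≫ g) (T.obj L0) := by
    rw [hψg]
    exact AmpleLib.isRelAmple_pullback_quasiAffine ι (isQuasiAffine_affine ι) hL0a
  obtain ⟨t₀, ht₀⟩ := exists_isZero_terms ψ g hG (fun W hW => hGa.2 ⟨W, hW⟩)
    (AmpleLib.isInvertible_pullback ι hL0) (AmpleLib.isInvertible_pullback ι hOE) (AmpleLib.isInvertible_pullback ι hJ)
    (fun W hW => hLa.2 ⟨W, hW⟩)
    ((AmpleLib.pullTensor ι _ _).symm ≪≫ T.mapIso (AmpleLib.comm _ _ ≪≫ η) ≪≫ AmpleLib.pullO ι) hm hr eG hfib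
  obtain ⟨a₀, ha₀⟩ := AmpleEmb.exists_isZero_rpush_tensorPow f hL0 (fun W hW => hL0a.2 ⟨W, hW⟩)
    (DevLib.isCoh_structureModule X)
  let n := r * (t₀ + a₀ + 1)
  refine ⟨n, Nat.mul_pos hr (Nat.succ_pos _), fun i j hi hj => ?_⟩
  let t := (t₀ + a₀ + 1) * j
  have ht : t₀ + a₀ + 1 ≤ t := Nat.le_mul_of_pos_right _ hj
  have hrt : t ≤ r * t := Nat.le_mul_of_pos_left _ hr
  have key : ∀ b : ℕ, b ≤ m * (r * t) → IsZero ((Coh.Rpush f i).obj
      (CohB1.tensorMod (CohB1.tensorPow L0 (r * t)) (CohB1.tensorPow OE b))) := by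
    intro b
    induction b with
    | zero =>
      intro _
      exact IsZero.of_iso (ha₀ (r * t) (by omega) i hi)
        ((Coh.Rpush f i).mapIso (AmpleLib.comm (CohB1.tensorPow L0 (r * t)) (Coh.structureModule X)))
    | succ b ih =>
      intro hb
      have hP : PicF.IsInvertible (CohB1.tensorMod (CohB1.tensorPow L0 (r * t)) (CohB1.tensorPow OE (b + 1))) :=
        AmpleLib.isInvertible_tensor (AmpleLib.isInvertible_tensorPow hL0 _) (AmpleLib.isInvertible_tensorPow hOE _)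
      obtain ⟨k, w, hS⟩ := CIProjLib.exists_restriction_seq hJ hP
      refine AffCritLib.isZero_rightDerived_mid (S := Scheme.Modules.pushforward f) hS i ?_ ?_
      · exact IsZero.of_iso (ih (by omega)) ((Coh.Rpush f i).mapIso (predIso η _ b))
      · haveI : Coh.IsQCoh (T.obj (CohB1.tensorMod (CohB1.tensorPow L0 (r * t)) (CohB1.tensorPow OE (b + 1)))) :=
          InvExt.isQCoh_of_isInvertible (AmpleLib.isInvertible_pullback ι hP)
        refine isZero_rpush_push ι f _ i ?_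
        have := ht₀ t (by omega) (b + 1) (Nat.le_add_left 1 b) hb i hi
        rw [show Coh.Rpush (ι ≫ f) i = Coh.Rpush (ψ ≫ g) i by simp [hψg, ι]]
        exact IsZero.of_iso this ((Coh.Rpush (ψ ≫ g) i).mapIso (AmpleLib.pullTensor ι _ _ ≪≫
          AmpleLib.tIso (AmpleLib.pullPow ι L0 _) (AmpleLib.pullPow ι OE _)))
  have hn : j * n = r * t := by simp only [n, t]; ring
  rw [hn]
  exact IsZero.of_iso (key (m * (r * t)) le_rfl) ((Coh.Rpush f i).mapIso (mixIso L0 OE m (r * t)))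

end Groth.Agent.DivVanLib
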