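import Groth.Agent.SemiVanLib.Main

/-!
# Uniform vanishing with a coherent twist
-/

set_option autoImplicit false
set_option backward.isDefEq.respectTransparency false
set_option linter.style.haveILetI false

universe u

open CategoryTheory CategoryTheory.Limits AlgebraicGeometry TopologicalSpace Opposite
open Groth.Agent.PullbackMod Groth.Agent.DCohLib Groth.Agent.AmpleLib
open Groth.Agent.AmpleEmb Groth.Agent.CohBase Groth.Agent.SemiVanLib

noncomputable section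

namespace Groth.Agent.DivVanLib

section Affine

variable {X Y : Scheme.{u}} {R : Type u} [CommRing R] [IsNoetherianRing R] (ψ : X ⟶ Y)

/-- Uniform vanishing when the power of the ample module is large. -/
theorem exists_vanish_semi_twist (f : X ⟶ Spec (CommRingCat.of R)) [IsProper f]
    (g : Y ⟶ Spec (CommRingCat.of R)) [LocallyOfFiniteType g] {L M : X.Modules} {N : Y.Modules}
    (hL : PicF.IsInvertible L) (hM : CohB1.IsAmple M) (hN : CohB1.IsAmple N) {ℓ : ℕ} (hℓ : 0 < ℓ)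
    (eN : (Scheme.Modules.pullback ψ).obj N ≅ CohB1.tensorPow L ℓ) {F : X.Modules} (hF : Coh.IsCoh F) :
    ∃ B : ℕ, ∀ a b p : ℕ, B ≤ b → 0 < p →
      Subsingleton (Coh.HH X (tmod (tmod F (CohB1.tensorPow L a)) (CohB1.tensorPow M b)) p) := by
  haveI : IsLocallyNoetherian X := LocallyOfFiniteType.isLocallyNoetherian f
  haveI := hM.2.1
  haveI : IsNoetherian X := { }
  rcases isEmpty_or_nonempty X with hX | hX
  · refine ⟨0, fun a b p _ hp => CurveLib.subsingleton_HH_of_dim _ (d := 0) ?_ hp⟩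
    refine Order.krullDim_nonpos_iff_forall_isMax.2 fun Z => ?_
    obtain ⟨x, -⟩ := Z.isIrreducible.1
    exact (hX.false x).elim
  haveI : Nonempty Y := hX.map ψ.base
  obtain ⟨E'⟩ := exists_emb hM f ((Scheme.ΓSpecIso (CommRingCat.of R)).inv ≫ f.appTop).hom rfl
  obtain ⟨E⟩ := exists_emb hN g ((Scheme.ΓSpecIso (CommRingCat.of R)).inv ≫ g.appTop).hom rfl
  have cL : ∀ r : ℕ, Coh.IsCoh (CohB1.tensorPow L r) := fun r =>
    CurveLib.isCoh_of_isInvertible (isInvertible_tensorPow hL r)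
  have cM : ∀ r : ℕ, Coh.IsCoh (CohB1.tensorPow M r) := fun r =>
    CurveLib.isCoh_of_isInvertible (isInvertible_tensorPow hM.1 r)
  have cP : ∀ j : ℕ, Coh.IsCoh ((Scheme.Modules.pullback ψ).obj (CohB1.tensorPow E.P j)) := fun j =>
    CurveLib.isCoh_of_isInvertible (AmpleLib.isInvertible_pullback ψ (isInvertible_tensorPow E.inv j))
  have h1 : ∀ r j : ℕ, ∃ n₀ : ℕ, ∀ b, n₀ ≤ b → ∀ p, 0 < p →
      Subsingleton (Coh.HH X (tmod (tmod (tmod F (CohB1.tensorPow L r))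
        ((Scheme.Modules.pullback ψ).obj (CohB1.tensorPow E.P j))) (CohB1.tensorPow M b)) p) := fun r j =>
    serre_vanishing f hM (CurveLib.isCoh_tmod (CurveLib.isCoh_tmod hF (cL r)) (cP j))
  choose B₀ hB₀ using h1
  let m := ℓ * E.D
  have hm : 0 < m := Nat.mul_pos hℓ E.hD
  refine ⟨(Finset.range m).sup fun r => (Finset.range (E'.n + 2)).sup (B₀ r), fun a b p hb hp => ?_⟩
  have hr : a % m < m := Nat.mod_lt a hm
  have key : Subsingleton (Coh.HH X (tmod (tmod (tmod F (CohB1.tensorPow L (a % m))) (CohB1.tensorPow M b))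
      ((Scheme.Modules.pullback ψ).obj (CohB1.tensorPow E.P (a / m)))) p) := by
    refine vanish_pull E E' f ψ (CurveLib.isCoh_tmod (CurveLib.isCoh_tmod hF (cL (a % m))) (cM b)) (fun j hj q hq => ?_) _ p hp
    have hB : B₀ (a % m) j ≤ b :=
      ((Finset.le_sup (f := B₀ (a % m)) (Finset.mem_range.2 (by omega))).trans
        (Finset.le_sup (f := fun r => (Finset.range (E'.n + 2)).sup (B₀ r)) (Finset.mem_range.2 hr))).trans hb
    refine CurveLib.subsingleton_HH_iso ?_ q (hB₀ (a % m) j b hB q hq)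
    exact AmpleLib.assoc _ _ _ ≪≫ AmpleLib.tIso (Iso.refl _) (AmpleLib.comm _ _) ≪≫ (AmpleLib.assoc _ _ _).symm
  refine CurveLib.subsingleton_HH_iso ?_ p key
  exact AmpleLib.assoc _ _ _ ≪≫ AmpleLib.tIso (Iso.refl _) (AmpleLib.comm _ _) ≪≫ (AmpleLib.assoc _ _ _).symm ≪≫
    AmpleLib.tIso (AmpleLib.assoc _ _ _ ≪≫ AmpleLib.tIso (Iso.refl F)
      (AmpleLib.tIso (Iso.refl _) (powPullIso ψ eN E.iso _) ≪≫
        (AmpleLib.powAdd L (a % m) (ℓ * (E.D * (a / m)))).symm ≪≫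
          eqToIso (congrArg (CohB1.tensorPow L) (by rw [← mul_assoc]; exact Nat.mod_add_div a m)))) (Iso.refl _)

end Affine

variable {X Y S : Scheme.{u}}

theorem isCoh_two [IsLocallyNoetherian X] {A B : X.Modules} (hA : Coh.IsCoh A) (hB : Coh.IsCoh B) :
    Coh.IsCoh (CohB1.tensorMod A B) :=
  CurveLib.isCoh_tmod hA hB

theorem isCoh_triple [IsLocallyNoetherian X] {F L M : X.Modules} (hF : Coh.IsCoh F) (hL : PicF.IsInvertible L)
    (hM : PicF.IsInvertible M) (a b : ℕ) :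
    Coh.IsCoh (CohB1.tensorMod (CohB1.tensorMod F (CohB1.tensorPow L a)) (CohB1.tensorPow M b)) :=
  isCoh_two (isCoh_two hF (CurveLib.isCoh_of_isInvertible (AmpleLib.isInvertible_tensorPow hL a)))
    (CurveLib.isCoh_of_isInvertible (AmpleLib.isInvertible_tensorPow hM b))

variable (ψ : X ⟶ Y) (q : Y ⟶ S)

/-- Large powers of the relatively ample module. -/
theorem exists_isZero_large_twist [IsNoetherian S] [IsProper (ψ ≫ q)] [IsProper q] [HasInjectiveResolutions X.Modules]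
    {L M : X.Modules} (hL : PicF.IsInvertible L) (hM : PicF.IsInvertible M)
    (hMa : ∀ W : S.Opens, IsAffineOpen W → CohB1.IsAmple (M.restrict ((ψ ≫ q) ⁻¹ᵁ W).ι))
    {N : Y.Modules} (hNa : ∀ W : S.Opens, IsAffineOpen W → CohB1.IsAmple (N.restrict (q ⁻¹ᵁ W).ι))
    {ℓ : ℕ} (hℓ : 0 < ℓ) (eN : (Scheme.Modules.pullback ψ).obj N ≅ CohB1.tensorPow L ℓ) {F : X.Modules} (hF : Coh.IsCoh F) :
    ∃ B : ℕ, ∀ i a b : ℕ, 0 < i → B ≤ b →
      IsZero ((Coh.Rpush (ψ ≫ q) i).obj (CohB1.tensorMod (CohB1.tensorMod F (CohB1.tensorPow L a)) (CohB1.tensorPow M b))) := by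
  classical
  haveI : IsLocallyNoetherian X := LocallyOfFiniteType.isLocallyNoetherian (ψ ≫ q)
  obtain ⟨s, hs, hseq⟩ := isCompact_iff_finite_and_eq_biUnion_affineOpens.mp
    (show IsCompact ((⊤ : S.Opens) : Set S) from isCompact_univ)
  have key : ∀ V : S.affineOpens, ∃ d : ℕ, ∀ a b : ℕ, d ≤ b → ∀ (g : Γ(S, V.1)) (p : ℕ),
      Subsingleton (HU ((ψ ≫ q) ⁻¹ᵁ S.basicOpen g) (Coh.toAb
        (CohB1.tensorMod (CohB1.tensorMod F (CohB1.tensorPow L a)) (CohB1.tensorPow M b))) (p + 1)) := by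
    intro V
    let U := (ψ ≫ q) ⁻¹ᵁ V.1
    haveI : IsNoetherianRing Γ(S, V.1) := IsLocallyNoetherian.component_noetherian V
    let φ : U.toScheme ⟶ Spec Γ(S, V.1) := (ψ ≫ q) ∣_ V.1 ≫ V.2.isoSpec.hom
    let φY : (q ⁻¹ᵁ V.1).toScheme ⟶ Spec Γ(S, V.1) := q ∣_ V.1 ≫ V.2.isoSpec.hom
    haveI : IsProper φ := inferInstance
    haveI : IsProper φY := inferInstance
    obtain ⟨d, hd⟩ := exists_vanish_semi_twist (R := Γ(S, V.1)) (X := U.toScheme) (Y := (q ⁻¹ᵁ V.1).toScheme)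
      (ψ ∣_ (q ⁻¹ᵁ V.1)) φ φY (L := L.restrict U.ι) (M := M.restrict U.ι)
      (ParaFLib.isInvertible_restrict U.ι hL) (hMa V.1 V.2) (hNa V.1 V.2) hℓ (restrictPullIso ψ (q ⁻¹ᵁ V.1) eN)
      (F := F.restrict U.ι) (ProjCoh.isCoh_of_iso (AmpleLib.restrictIso U.ι F).symm (PullbackMod.isCoh_pullback _ _ hF))
    refine ⟨d, fun a b hb g p => ?_⟩
    have hN := isCoh_triple hF hL hM a b
    haveI := hN.1
    refine subsingleton_HU_preimage_basicOpen (ψ ≫ q) _ V.2 p ?_ g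
    exact CurveLib.subsingleton_HH_iso (AmpleLib.restrictTensor U.ι _ _ ≪≫
      AmpleLib.tIso (AmpleLib.restrictTensor U.ι _ _ ≪≫
        AmpleLib.tIso (Iso.refl _) (AmpleLib.restrictPow U.ι L a)) (AmpleLib.restrictPow U.ι M b)).symm (p + 1)
      (hd a b (p + 1) hb p.succ_pos)
  choose d hd using key
  refine ⟨hs.toFinset.sup d, fun i a b hi hb => isZero_of_toAb (ψ ≫ q) i ?_⟩
  obtain ⟨j, rfl⟩ : ∃ j, i = j + 1 := ⟨i - 1, by omega⟩
  refine RpushLib.isZero_rightDerived_at (ψ ≫ q).base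
    (B := fun U => ∃ V ∈ s, ∃ g : Γ(S, V.1), U = S.basicOpen g) (fun W y hy => ?_)
    (Coh.toAb (CohB1.tensorMod (CohB1.tensorMod F (CohB1.tensorPow L a)) (CohB1.tensorPow M b))) j ?_
  · obtain ⟨V, hV, hyV⟩ : ∃ V ∈ s, y ∈ (V : S.Opens) := by
      have hy' : y ∈ (⊤ : S.Opens) := trivial
      rw [hseq] at hy'
      simpa [Opens.mem_iSup] using hy'
    obtain ⟨g, hgW, hyg⟩ := V.2.exists_basicOpen_le (V := W) ⟨y, hy⟩ hyV
    exact ⟨S.basicOpen g, ⟨V, hV, g, rfl⟩, hyg, hgW⟩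
  · rintro _ ⟨V, hV, g, rfl⟩
    exact hd V a b ((Finset.le_sup (f := d) (hs.mem_toFinset.mpr hV)).trans hb) g j

end Groth.Agent.DivVanLib
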